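import Cfsg.Agent.H5.PG

/-!
A presentation of the extraspecial group of order 128 and minus type.
-/

set_option autoImplicit false
set_option maxRecDepth 100000
set_option linter.unusedSimpArgs false
set_option linter.unusedVariables false

namespace Cfsg.H5.Sz

open Cfsg.H6

namespace PQ

structure Rel {G : Type*} [Group G] (e1 f1 e2 f2 g1 g2 z : G) : Prop where
  se1 : e1 * e1 = 1
  sf1 : f1 * f1 = 1
  se2 : e2 * e2 = 1
  sf2 : f2 * f2 = 1
  sz : z * z = 1
  sg1 : g1 * g1 = z
  sg2 : g2 * g2 = z
  pe1f1 : f1 * e1 = z * (e1 * f1)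
  ce1e2 : e2 * e1 = e1 * e2
  ce1f2 : f2 * e1 = e1 * f2
  ce1g1 : g1 * e1 = e1 * g1
  ce1g2 : g2 * e1 = e1 * g2
  cf1e2 : e2 * f1 = f1 * e2
  cf1f2 : f2 * f1 = f1 * f2
  cf1g1 : g1 * f1 = f1 * g1
  cf1g2 : g2 * f1 = f1 * g2
  pe2f2 : f2 * e2 = z * (e2 * f2)
  ce2g1 : g1 * e2 = e2 * g1
  ce2g2 : g2 * e2 = e2 * g2
  cf2g1 : g1 * f2 = f2 * g1
  cf2g2 : g2 * f2 = f2 * g2
  pg1g2 : g2 * g1 = z * (g1 * g2)
  ze1 : z * e1 = e1 * z
  zf1 : z * f1 = f1 * z
  ze2 : z * e2 = e2 * z
  zf2 : z * f2 = f2 * z
  zg1 : z * g1 = g1 * z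
  zg2 : z * g2 = g2 * z

def R : List (List ℕ) := [[1, 1], [2, 2], [3, 3], [4, 4], [9, 9], [5, 5, 9], [7, 7, 9], [2, 1, 2, 1, 9], [3, 1, 3, 1], [4, 1, 4, 1], [5, 1, 6, 1], [7, 1, 8, 1], [3, 2, 3, 2], [4, 2, 4, 2], [5, 2, 6, 2], [7, 2, 8, 2], [4, 3, 4, 3, 9], [5, 3, 6, 3], [7, 3, 8, 3], [5, 4, 6, 4], [7, 4, 8, 4], [7, 5, 8, 6, 9], [9, 1, 9, 1], [9, 2, 9, 2], [9, 3, 9, 3], [9, 4, 9, 4], [9, 5, 9, 6], [9, 7, 9, 8]]

def ev {G : Type*} [Group G] (e1 f1 e2 f2 g1 g2 z : G) (l : ℕ) : G := [1, e1, f1, e2, f2, g1, g1⁻¹, g2, g2⁻¹, z].getD l 1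

theorem good {G : Type*} [Group G] {e1 f1 e2 f2 g1 g2 z : G} (H : Rel e1 f1 e2 f2 g1 g2 z) : Good (ev e1 f1 e2 f2 g1 g2 z) 42631003429084260860160 := by
  have i_e1 : e1⁻¹ = e1 := inv_eq_of_mul_eq_one_right H.se1
  have i_f1 : f1⁻¹ = f1 := inv_eq_of_mul_eq_one_right H.sf1
  have i_e2 : e2⁻¹ = e2 := inv_eq_of_mul_eq_one_right H.se2
  have i_f2 : f2⁻¹ = f2 := inv_eq_of_mul_eq_one_right H.sf2
  have i_z : z⁻¹ = z := inv_eq_of_mul_eq_one_right H.sz
  refine good_list (n := 10) rfl (by norm_num) rfl fun l hl => ?_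
  interval_cases l
  · exact inv_one.symm
  · exact i_e1.symm
  · exact i_f1.symm
  · exact i_e2.symm
  · exact i_f2.symm
  · rfl
  · exact (inv_inv _).symm
  · rfl
  · exact (inv_inv _).symm
  · exact i_z.symm

theorem rels {G : Type*} [Group G] {e1 f1 e2 f2 g1 g2 z : G} (H : Rel e1 f1 e2 f2 g1 g2 z) : Rels (ev e1 f1 e2 f2 g1 g2 z) R := by
  have i_e1 : e1⁻¹ = e1 := inv_eq_of_mul_eq_one_right H.se1
  have i_f1 : f1⁻¹ = f1 := inv_eq_of_mul_eq_one_right H.sf1
  have i_e2 : e2⁻¹ = e2 := inv_eq_of_mul_eq_one_right H.se2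
  have i_f2 : f2⁻¹ = f2 := inv_eq_of_mul_eq_one_right H.sf2
  have i_z : z⁻¹ = z := inv_eq_of_mul_eq_one_right H.sz
  unfold R
  refine Rels.cons ?_ ?_
  · show e1 * (e1 * 1) = 1
    simpa only [mul_inv_rev, inv_inv, mul_assoc, mul_one, one_mul, inv_one, pow_succ, pow_zero, i_e1, i_f1, i_e2, i_f2, i_z] using mul_inv_eq_one.mpr H.se1
  refine Rels.cons ?_ ?_
  · show f1 * (f1 * 1) = 1
    simpa only [mul_inv_rev, inv_inv, mul_assoc, mul_one, one_mul, inv_one, pow_succ, pow_zero, i_e1, i_f1, i_e2, i_f2, i_z] using mul_inv_eq_one.mpr H.sf1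
  refine Rels.cons ?_ ?_
  · show e2 * (e2 * 1) = 1
    simpa only [mul_inv_rev, inv_inv, mul_assoc, mul_one, one_mul, inv_one, pow_succ, pow_zero, i_e1, i_f1, i_e2, i_f2, i_z] using mul_inv_eq_one.mpr H.se2
  refine Rels.cons ?_ ?_
  · show f2 * (f2 * 1) = 1
    simpa only [mul_inv_rev, inv_inv, mul_assoc, mul_one, one_mul, inv_one, pow_succ, pow_zero, i_e1, i_f1, i_e2, i_f2, i_z] using mul_inv_eq_one.mpr H.sf2
  refine Rels.cons ?_ ?_
  · show z * (z * 1) = 1
    simpa only [mul_inv_rev, inv_inv, mul_assoc, mul_one, one_mul, inv_one, pow_succ, pow_zero, i_e1, i_f1, i_e2, i_f2, i_z] using mul_inv_eq_one.mpr H.sz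
  refine Rels.cons ?_ ?_
  · show g1 * (g1 * (z * 1)) = 1
    simpa only [mul_inv_rev, inv_inv, mul_assoc, mul_one, one_mul, inv_one, pow_succ, pow_zero, i_e1, i_f1, i_e2, i_f2, i_z] using mul_inv_eq_one.mpr H.sg1
  refine Rels.cons ?_ ?_
  · show g2 * (g2 * (z * 1)) = 1
    simpa only [mul_inv_rev, inv_inv, mul_assoc, mul_one, one_mul, inv_one, pow_succ, pow_zero, i_e1, i_f1, i_e2, i_f2, i_z] using mul_inv_eq_one.mpr H.sg2
  refine Rels.cons ?_ ?_
  · show f1 * (e1 * (f1 * (e1 * (z * 1)))) = 1
    simpa only [mul_inv_rev, inv_inv, mul_assoc, mul_one, one_mul, inv_one, pow_succ, pow_zero, i_e1, i_f1, i_e2, i_f2, i_z] using mul_inv_eq_one.mpr H.pe1f1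
  refine Rels.cons ?_ ?_
  · show e2 * (e1 * (e2 * (e1 * 1))) = 1
    simpa only [mul_inv_rev, inv_inv, mul_assoc, mul_one, one_mul, inv_one, pow_succ, pow_zero, i_e1, i_f1, i_e2, i_f2, i_z] using mul_inv_eq_one.mpr H.ce1e2
  refine Rels.cons ?_ ?_
  · show f2 * (e1 * (f2 * (e1 * 1))) = 1
    simpa only [mul_inv_rev, inv_inv, mul_assoc, mul_one, one_mul, inv_one, pow_succ, pow_zero, i_e1, i_f1, i_e2, i_f2, i_z] using mul_inv_eq_one.mpr H.ce1f2
  refine Rels.cons ?_ ?_
  · show g1 * (e1 * (g1⁻¹ * (e1 * 1))) = 1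
    simpa only [mul_inv_rev, inv_inv, mul_assoc, mul_one, one_mul, inv_one, pow_succ, pow_zero, i_e1, i_f1, i_e2, i_f2, i_z] using mul_inv_eq_one.mpr H.ce1g1
  refine Rels.cons ?_ ?_
  · show g2 * (e1 * (g2⁻¹ * (e1 * 1))) = 1
    simpa only [mul_inv_rev, inv_inv, mul_assoc, mul_one, one_mul, inv_one, pow_succ, pow_zero, i_e1, i_f1, i_e2, i_f2, i_z] using mul_inv_eq_one.mpr H.ce1g2
  refine Rels.cons ?_ ?_
  · show e2 * (f1 * (e2 * (f1 * 1))) = 1
    simpa only [mul_inv_rev, inv_inv, mul_assoc, mul_one, one_mul, inv_one, pow_succ, pow_zero, i_e1, i_f1, i_e2, i_f2, i_z] using mul_inv_eq_one.mpr H.cf1e2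
  refine Rels.cons ?_ ?_
  · show f2 * (f1 * (f2 * (f1 * 1))) = 1
    simpa only [mul_inv_rev, inv_inv, mul_assoc, mul_one, one_mul, inv_one, pow_succ, pow_zero, i_e1, i_f1, i_e2, i_f2, i_z] using mul_inv_eq_one.mpr H.cf1f2
  refine Rels.cons ?_ ?_
  · show g1 * (f1 * (g1⁻¹ * (f1 * 1))) = 1
    simpa only [mul_inv_rev, inv_inv, mul_assoc, mul_one, one_mul, inv_one, pow_succ, pow_zero, i_e1, i_f1, i_e2, i_f2, i_z] using mul_inv_eq_one.mpr H.cf1g1
  refine Rels.cons ?_ ?_
  · show g2 * (f1 * (g2⁻¹ * (f1 * 1))) = 1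
    simpa only [mul_inv_rev, inv_inv, mul_assoc, mul_one, one_mul, inv_one, pow_succ, pow_zero, i_e1, i_f1, i_e2, i_f2, i_z] using mul_inv_eq_one.mpr H.cf1g2
  refine Rels.cons ?_ ?_
  · show f2 * (e2 * (f2 * (e2 * (z * 1)))) = 1
    simpa only [mul_inv_rev, inv_inv, mul_assoc, mul_one, one_mul, inv_one, pow_succ, pow_zero, i_e1, i_f1, i_e2, i_f2, i_z] using mul_inv_eq_one.mpr H.pe2f2
  refine Rels.cons ?_ ?_
  · show g1 * (e2 * (g1⁻¹ * (e2 * 1))) = 1
    simpa only [mul_inv_rev, inv_inv, mul_assoc, mul_one, one_mul, inv_one, pow_succ, pow_zero, i_e1, i_f1, i_e2, i_f2, i_z] using mul_inv_eq_one.mpr H.ce2g1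
  refine Rels.cons ?_ ?_
  · show g2 * (e2 * (g2⁻¹ * (e2 * 1))) = 1
    simpa only [mul_inv_rev, inv_inv, mul_assoc, mul_one, one_mul, inv_one, pow_succ, pow_zero, i_e1, i_f1, i_e2, i_f2, i_z] using mul_inv_eq_one.mpr H.ce2g2
  refine Rels.cons ?_ ?_
  · show g1 * (f2 * (g1⁻¹ * (f2 * 1))) = 1
    simpa only [mul_inv_rev, inv_inv, mul_assoc, mul_one, one_mul, inv_one, pow_succ, pow_zero, i_e1, i_f1, i_e2, i_f2, i_z] using mul_inv_eq_one.mpr H.cf2g1
  refine Rels.cons ?_ ?_
  · show g2 * (f2 * (g2⁻¹ * (f2 * 1))) = 1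
    simpa only [mul_inv_rev, inv_inv, mul_assoc, mul_one, one_mul, inv_one, pow_succ, pow_zero, i_e1, i_f1, i_e2, i_f2, i_z] using mul_inv_eq_one.mpr H.cf2g2
  refine Rels.cons ?_ ?_
  · show g2 * (g1 * (g2⁻¹ * (g1⁻¹ * (z * 1)))) = 1
    simpa only [mul_inv_rev, inv_inv, mul_assoc, mul_one, one_mul, inv_one, pow_succ, pow_zero, i_e1, i_f1, i_e2, i_f2, i_z] using mul_inv_eq_one.mpr H.pg1g2
  refine Rels.cons ?_ ?_
  · show z * (e1 * (z * (e1 * 1))) = 1
    simpa only [mul_inv_rev, inv_inv, mul_assoc, mul_one, one_mul, inv_one, pow_succ, pow_zero, i_e1, i_f1, i_e2, i_f2, i_z] using mul_inv_eq_one.mpr H.ze1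
  refine Rels.cons ?_ ?_
  · show z * (f1 * (z * (f1 * 1))) = 1
    simpa only [mul_inv_rev, inv_inv, mul_assoc, mul_one, one_mul, inv_one, pow_succ, pow_zero, i_e1, i_f1, i_e2, i_f2, i_z] using mul_inv_eq_one.mpr H.zf1
  refine Rels.cons ?_ ?_
  · show z * (e2 * (z * (e2 * 1))) = 1
    simpa only [mul_inv_rev, inv_inv, mul_assoc, mul_one, one_mul, inv_one, pow_succ, pow_zero, i_e1, i_f1, i_e2, i_f2, i_z] using mul_inv_eq_one.mpr H.ze2
  refine Rels.cons ?_ ?_
  · show z * (f2 * (z * (f2 * 1))) = 1
    simpa only [mul_inv_rev, inv_inv, mul_assoc, mul_one, one_mul, inv_one, pow_succ, pow_zero, i_e1, i_f1, i_e2, i_f2, i_z] using mul_inv_eq_one.mpr H.zf2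
  refine Rels.cons ?_ ?_
  · show z * (g1 * (z * (g1⁻¹ * 1))) = 1
    simpa only [mul_inv_rev, inv_inv, mul_assoc, mul_one, one_mul, inv_one, pow_succ, pow_zero, i_e1, i_f1, i_e2, i_f2, i_z] using mul_inv_eq_one.mpr H.zg1
  refine Rels.cons ?_ ?_
  · show z * (g2 * (z * (g2⁻¹ * 1))) = 1
    simpa only [mul_inv_rev, inv_inv, mul_assoc, mul_one, one_mul, inv_one, pow_succ, pow_zero, i_e1, i_f1, i_e2, i_f2, i_z] using mul_inv_eq_one.mpr H.zg2
  intro r hr
  exact absurd hr List.not_mem_nil

/-- The relations hold for the letters of any assignment satisfying the relators. -/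
theorem rel_of {G : Type*} [Group G] {e : ℕ → G} (hg : Good e 42631003429084260860160) (hR : Rels e R) :
    Rel (e 1) (e 2) (e 3) (e 4) (e 5) (e 7) (e 9) := by
  have j1 : (e 1)⁻¹ = e 1 := (hg.inv 1).symm
  have j2 : (e 2)⁻¹ = e 2 := (hg.inv 2).symm
  have j3 : (e 3)⁻¹ = e 3 := (hg.inv 3).symm
  have j4 : (e 4)⁻¹ = e 4 := (hg.inv 4).symm
  have j5 : (e 5)⁻¹ = e 6 := (hg.inv 5).symm
  have j6 : (e 6)⁻¹ = e 5 := (hg.inv 6).symm
  have j7 : (e 7)⁻¹ = e 8 := (hg.inv 7).symm
  have j8 : (e 8)⁻¹ = e 7 := (hg.inv 8).symm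
  have j9 : (e 9)⁻¹ = e 9 := (hg.inv 9).symm
  have r0 : e 1 * (e 1 * 1) = 1 := hR [1, 1] (List.mem_of_elem_eq_true (by decide))
  have r1 : e 2 * (e 2 * 1) = 1 := hR [2, 2] (List.mem_of_elem_eq_true (by decide))
  have r2 : e 3 * (e 3 * 1) = 1 := hR [3, 3] (List.mem_of_elem_eq_true (by decide))
  have r3 : e 4 * (e 4 * 1) = 1 := hR [4, 4] (List.mem_of_elem_eq_true (by decide))
  have r4 : e 9 * (e 9 * 1) = 1 := hR [9, 9] (List.mem_of_elem_eq_true (by decide))
  have r5 : e 5 * (e 5 * (e 9 * 1)) = 1 := hR [5, 5, 9] (List.mem_of_elem_eq_true (by decide))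
  have r6 : e 7 * (e 7 * (e 9 * 1)) = 1 := hR [7, 7, 9] (List.mem_of_elem_eq_true (by decide))
  have r7 : e 2 * (e 1 * (e 2 * (e 1 * (e 9 * 1)))) = 1 := hR [2, 1, 2, 1, 9] (List.mem_of_elem_eq_true (by decide))
  have r8 : e 3 * (e 1 * (e 3 * (e 1 * 1))) = 1 := hR [3, 1, 3, 1] (List.mem_of_elem_eq_true (by decide))
  have r9 : e 4 * (e 1 * (e 4 * (e 1 * 1))) = 1 := hR [4, 1, 4, 1] (List.mem_of_elem_eq_true (by decide))
  have r10 : e 5 * (e 1 * (e 6 * (e 1 * 1))) = 1 := hR [5, 1, 6, 1] (List.mem_of_elem_eq_true (by decide))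
  have r11 : e 7 * (e 1 * (e 8 * (e 1 * 1))) = 1 := hR [7, 1, 8, 1] (List.mem_of_elem_eq_true (by decide))
  have r12 : e 3 * (e 2 * (e 3 * (e 2 * 1))) = 1 := hR [3, 2, 3, 2] (List.mem_of_elem_eq_true (by decide))
  have r13 : e 4 * (e 2 * (e 4 * (e 2 * 1))) = 1 := hR [4, 2, 4, 2] (List.mem_of_elem_eq_true (by decide))
  have r14 : e 5 * (e 2 * (e 6 * (e 2 * 1))) = 1 := hR [5, 2, 6, 2] (List.mem_of_elem_eq_true (by decide))
  have r15 : e 7 * (e 2 * (e 8 * (e 2 * 1))) = 1 := hR [7, 2, 8, 2] (List.mem_of_elem_eq_true (by decide))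
  have r16 : e 4 * (e 3 * (e 4 * (e 3 * (e 9 * 1)))) = 1 := hR [4, 3, 4, 3, 9] (List.mem_of_elem_eq_true (by decide))
  have r17 : e 5 * (e 3 * (e 6 * (e 3 * 1))) = 1 := hR [5, 3, 6, 3] (List.mem_of_elem_eq_true (by decide))
  have r18 : e 7 * (e 3 * (e 8 * (e 3 * 1))) = 1 := hR [7, 3, 8, 3] (List.mem_of_elem_eq_true (by decide))
  have r19 : e 5 * (e 4 * (e 6 * (e 4 * 1))) = 1 := hR [5, 4, 6, 4] (List.mem_of_elem_eq_true (by decide))
  have r20 : e 7 * (e 4 * (e 8 * (e 4 * 1))) = 1 := hR [7, 4, 8, 4] (List.mem_of_elem_eq_true (by decide))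
  have r21 : e 7 * (e 5 * (e 8 * (e 6 * (e 9 * 1)))) = 1 := hR [7, 5, 8, 6, 9] (List.mem_of_elem_eq_true (by decide))
  have r22 : e 9 * (e 1 * (e 9 * (e 1 * 1))) = 1 := hR [9, 1, 9, 1] (List.mem_of_elem_eq_true (by decide))
  have r23 : e 9 * (e 2 * (e 9 * (e 2 * 1))) = 1 := hR [9, 2, 9, 2] (List.mem_of_elem_eq_true (by decide))
  have r24 : e 9 * (e 3 * (e 9 * (e 3 * 1))) = 1 := hR [9, 3, 9, 3] (List.mem_of_elem_eq_true (by decide))
  have r25 : e 9 * (e 4 * (e 9 * (e 4 * 1))) = 1 := hR [9, 4, 9, 4] (List.mem_of_elem_eq_true (by decide))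
  have r26 : e 9 * (e 5 * (e 9 * (e 6 * 1))) = 1 := hR [9, 5, 9, 6] (List.mem_of_elem_eq_true (by decide))
  have r27 : e 9 * (e 7 * (e 9 * (e 8 * 1))) = 1 := hR [9, 7, 9, 8] (List.mem_of_elem_eq_true (by decide))
  exact ⟨mul_inv_eq_one.mp (by simpa only [mul_inv_rev, mul_assoc, mul_one, one_mul, inv_one, pow_succ, pow_zero, j1, j2, j3, j4, j5, j6, j7, j8, j9] using r0),
    mul_inv_eq_one.mp (by simpa only [mul_inv_rev, mul_assoc, mul_one, one_mul, inv_one, pow_succ, pow_zero, j1, j2, j3, j4, j5, j6, j7, j8, j9] using r1),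
    mul_inv_eq_one.mp (by simpa only [mul_inv_rev, mul_assoc, mul_one, one_mul, inv_one, pow_succ, pow_zero, j1, j2, j3, j4, j5, j6, j7, j8, j9] using r2),
    mul_inv_eq_one.mp (by simpa only [mul_inv_rev, mul_assoc, mul_one, one_mul, inv_one, pow_succ, pow_zero, j1, j2, j3, j4, j5, j6, j7, j8, j9] using r3),
    mul_inv_eq_one.mp (by simpa only [mul_inv_rev, mul_assoc, mul_one, one_mul, inv_one, pow_succ, pow_zero, j1, j2, j3, j4, j5, j6, j7, j8, j9] using r4),
    mul_inv_eq_one.mp (by simpa only [mul_inv_rev, mul_assoc, mul_one, one_mul, inv_one, pow_succ, pow_zero, j1, j2, j3, j4, j5, j6, j7, j8, j9] using r5),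
    mul_inv_eq_one.mp (by simpa only [mul_inv_rev, mul_assoc, mul_one, one_mul, inv_one, pow_succ, pow_zero, j1, j2, j3, j4, j5, j6, j7, j8, j9] using r6),
    mul_inv_eq_one.mp (by simpa only [mul_inv_rev, mul_assoc, mul_one, one_mul, inv_one, pow_succ, pow_zero, j1, j2, j3, j4, j5, j6, j7, j8, j9] using r7),
    mul_inv_eq_one.mp (by simpa only [mul_inv_rev, mul_assoc, mul_one, one_mul, inv_one, pow_succ, pow_zero, j1, j2, j3, j4, j5, j6, j7, j8, j9] using r8),
    mul_inv_eq_one.mp (by simpa only [mul_inv_rev, mul_assoc, mul_one, one_mul, inv_one, pow_succ, pow_zero, j1, j2, j3, j4, j5, j6, j7, j8, j9] using r9),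
    mul_inv_eq_one.mp (by simpa only [mul_inv_rev, mul_assoc, mul_one, one_mul, inv_one, pow_succ, pow_zero, j1, j2, j3, j4, j5, j6, j7, j8, j9] using r10),
    mul_inv_eq_one.mp (by simpa only [mul_inv_rev, mul_assoc, mul_one, one_mul, inv_one, pow_succ, pow_zero, j1, j2, j3, j4, j5, j6, j7, j8, j9] using r11),
    mul_inv_eq_one.mp (by simpa only [mul_inv_rev, mul_assoc, mul_one, one_mul, inv_one, pow_succ, pow_zero, j1, j2, j3, j4, j5, j6, j7, j8, j9] using r12),
    mul_inv_eq_one.mp (by simpa only [mul_inv_rev, mul_assoc, mul_one, one_mul, inv_one, pow_succ, pow_zero, j1, j2, j3, j4, j5, j6, j7, j8, j9] using r13),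
    mul_inv_eq_one.mp (by simpa only [mul_inv_rev, mul_assoc, mul_one, one_mul, inv_one, pow_succ, pow_zero, j1, j2, j3, j4, j5, j6, j7, j8, j9] using r14),
    mul_inv_eq_one.mp (by simpa only [mul_inv_rev, mul_assoc, mul_one, one_mul, inv_one, pow_succ, pow_zero, j1, j2, j3, j4, j5, j6, j7, j8, j9] using r15),
    mul_inv_eq_one.mp (by simpa only [mul_inv_rev, mul_assoc, mul_one, one_mul, inv_one, pow_succ, pow_zero, j1, j2, j3, j4, j5, j6, j7, j8, j9] using r16),
    mul_inv_eq_one.mp (by simpa only [mul_inv_rev, mul_assoc, mul_one, one_mul, inv_one, pow_succ, pow_zero, j1, j2, j3, j4, j5, j6, j7, j8, j9] using r17),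
    mul_inv_eq_one.mp (by simpa only [mul_inv_rev, mul_assoc, mul_one, one_mul, inv_one, pow_succ, pow_zero, j1, j2, j3, j4, j5, j6, j7, j8, j9] using r18),
    mul_inv_eq_one.mp (by simpa only [mul_inv_rev, mul_assoc, mul_one, one_mul, inv_one, pow_succ, pow_zero, j1, j2, j3, j4, j5, j6, j7, j8, j9] using r19),
    mul_inv_eq_one.mp (by simpa only [mul_inv_rev, mul_assoc, mul_one, one_mul, inv_one, pow_succ, pow_zero, j1, j2, j3, j4, j5, j6, j7, j8, j9] using r20),
    mul_inv_eq_one.mp (by simpa only [mul_inv_rev, mul_assoc, mul_one, one_mul, inv_one, pow_succ, pow_zero, j1, j2, j3, j4, j5, j6, j7, j8, j9] using r21),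
    mul_inv_eq_one.mp (by simpa only [mul_inv_rev, mul_assoc, mul_one, one_mul, inv_one, pow_succ, pow_zero, j1, j2, j3, j4, j5, j6, j7, j8, j9] using r22),
    mul_inv_eq_one.mp (by simpa only [mul_inv_rev, mul_assoc, mul_one, one_mul, inv_one, pow_succ, pow_zero, j1, j2, j3, j4, j5, j6, j7, j8, j9] using r23),
    mul_inv_eq_one.mp (by simpa only [mul_inv_rev, mul_assoc, mul_one, one_mul, inv_one, pow_succ, pow_zero, j1, j2, j3, j4, j5, j6, j7, j8, j9] using r24),
    mul_inv_eq_one.mp (by simpa only [mul_inv_rev, mul_assoc, mul_one, one_mul, inv_one, pow_succ, pow_zero, j1, j2, j3, j4, j5, j6, j7, j8, j9] using r25),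
    mul_inv_eq_one.mp (by simpa only [mul_inv_rev, mul_assoc, mul_one, one_mul, inv_one, pow_succ, pow_zero, j1, j2, j3, j4, j5, j6, j7, j8, j9] using r26),
    mul_inv_eq_one.mp (by simpa only [mul_inv_rev, mul_assoc, mul_one, one_mul, inv_one, pow_succ, pow_zero, j1, j2, j3, j4, j5, j6, j7, j8, j9] using r27)⟩

theorem gen_top : gen (pgEv 42631003429084260860160 R) [[1], [2], [3], [4], [5], [7], [9]] = ⊤ := pg_gen (n := 10) (by norm_num) (by decide)
namespace ub_0

noncomputable def get (y : ℕ) : ℕ := (sel (nat_lit 1) y (nat_lit 0x0) (nat_lit 0x100000000000101000001000000))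
noncomputable def gs (y : ℕ) : ℕ := (sel (nat_lit 2) y (sel (nat_lit 1) y (nat_lit 0x0) (nat_lit 0x0)) (sel (nat_lit 3) y (nat_lit 0x0) (sel (nat_lit 4) y (nat_lit 0x0) (nat_lit 0x80000018000001800000180000018000001800000180000018000001800000180000018000001800000180000018000001800000180000018000001800000180000018000001800000180000018000001800000180000018000001800000180000018000001800000180000018000000))))
noncomputable def gd (y : ℕ) : ℕ := (nat_lit 0x2000000000)
noncomputable def gwh (y : ℕ) : ℕ := (nat_lit 0x0)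
def sg : List (List ℕ) := [[], [9]]
def BL : List ℕ := []
def Sub : List (List ℕ) := []
theorem hA : prepA 42631003429084260860160 PQ.R sg 256 BL Sub get gd = true := by decide +kernel
theorem hw : allR (okW BL gwh) 0 0 = true := by decide +kernel
theorem b0 : allR (blk get gs (gwB gwh 0) gd 256) 4 1 = true := by decide +kernel
theorem hb : ∀ b, 4 ≤ b → b < 5 → blk get gs (gwB gwh 0) gd 256 b = true :=
  (allR_range b0 (by norm_num : 4 + 1 = 5))
noncomputable def gc (y : ℕ) : ℕ := (nat_lit 0x2010000200)
def X : List (List ℕ) := [[9]]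
theorem hC : prepC sg 256 X 1 2 1 = true := by decide +kernel
theorem c0 : allR (clo get gc 2 576 1) 0 1 = true := by decide +kernel
theorem cover {G : Type*} [Group G] {ev : ℕ → G} (hev : Good ev 42631003429084260860160) (hR : Rels ev PQ.R) :
    Cover (gen ev Sub) (gen ev X) 2 :=
  cert_cover hev hR hA hC hw hb (by norm_num) (allR_range c0 (by norm_num : 0 + 1 = 1 * 1))

end ub_0

namespace ub_1

noncomputable def get (y : ℕ) : ℕ := (sel (nat_lit 1) y (nat_lit 0x500000000000005000000000000) (nat_lit 0x1000003000002020000020000030100000200000302000003000002050000030000030500000300000303000001000003040000030000010400000100000303000003000001050000020000020500000200000203000000000002040000020000000400000000000203000002000000050000010000010500000100000101000000000001020000010000000200000000000101000001000000))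
noncomputable def gs (y : ℕ) : ℕ := (sel (nat_lit 2) y (sel (nat_lit 1) y (nat_lit 0x0) (nat_lit 0x0)) (sel (nat_lit 3) y (nat_lit 0x0) (sel (nat_lit 4) y (nat_lit 0x0) (nat_lit 0x8000006800000680000068000006800000680000068000006800000680000068000006800000680000068000006800000680000068000006800000680000068000006800000680000068000005000020600001010000201000020d8000005000020c0000204000020200002078000004000020c000020f8000003000020c0000204800000080000040000206000020980000030000206000010080000008000002000020000002038000001000020000001008000000))))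
noncomputable def gd (y : ℕ) : ℕ := (nat_lit 0x20c000020600002000000000)
noncomputable def gwh (y : ℕ) : ℕ := (sel (nat_lit 2) y (sel (nat_lit 1) y (nat_lit 0x50101000002001000) (nat_lit 0x10105000000003000)) (sel (nat_lit 3) y (nat_lit 0x50303000002001001) (sel (nat_lit 4) y (nat_lit 0x30305000000003001) (nat_lit 0x402050301000002003002))))
def sg : List (List ℕ) := [[], [5], [6], [7], [8], [9]]
def BL : List ℕ := [0x10105, 0x30305, 0x301040205]
def Sub : List (List ℕ) := [[9]]
theorem hA : prepA 42631003429084260860160 PQ.R sg 5510510215680 BL Sub get gd = true := by decide +kernel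
theorem hw : allR (okW BL gwh) 0 5 = true := by decide +kernel
theorem b0 : allR (blk get gs (gwB gwh 5) gd 5510510215680) 4 1 = true := by decide +kernel
theorem hb : ∀ b, 4 ≤ b → b < 5 → blk get gs (gwB gwh 5) gd 5510510215680 b = true :=
  (allR_range b0 (by norm_num : 4 + 1 = 5))
noncomputable def gc (y : ℕ) : ℕ := (sel (nat_lit 2) y (sel (nat_lit 1) y (nat_lit 0x213000021500002030000200) (nat_lit 0x214000021200002010000202)) (sel (nat_lit 3) y (nat_lit 0x20f0000209000020c0000206) (sel (nat_lit 4) y (nat_lit 0x20d0000207000020e0000208) (nat_lit 0x211000020b00002050000101))))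
def X : List (List ℕ) := [[5], [7], [9]]
theorem hC : prepC sg 5510510215680 X 5 4 1 = true := by decide +kernel
theorem c0 : allR (clo get gc 4 576 1) 0 5 = true := by decide +kernel
theorem cover {G : Type*} [Group G] {ev : ℕ → G} (hev : Good ev 42631003429084260860160) (hR : Rels ev PQ.R) :
    Cover (gen ev Sub) (gen ev X) 4 :=
  cert_cover hev hR hA hC hw hb (by norm_num) (allR_range c0 (by norm_num : 0 + 5 = 5 * 1))

end ub_1

namespace ub_2

noncomputable def get (y : ℕ) : ℕ := (sel (nat_lit 1) y (nat_lit 0x90000000000000900000000000008000000000000070000000000000600000000000005000000000000) (nat_lit 0x300000c00000f0300000f00000c0900000f00000f0900000f00000f0800000f00000f0700000f00000f0600000f00000f0500000f00000f0200000d00000f0200000f00000d0100000e00000f0100000f00000e0400000b00000f0400000f00000b0300000900000e0300000e0000090900000e00000e0900000e00000e0800000e00000e0700000e00000e0600000e00000e0500000e00000e0200000a00000e0200000e00000a0400000800000e0400000e0000080300000700000d0300000d0000070900000d000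00d0900000d00000d0800000d00000d0700000d00000d0600000d00000d0500000d00000d0100000a00000d0100000d00000a0400000600000d0400000d0000060900000c00000c0900000c00000c0800000c00000c0700000c00000c0600000c00000c0500000c00000c0200000700000c0200000c0000070100000900000c0100000c0000090400000500000c0400000c0000050900000b00000b0900000b00000b0800000b00000b0700000b00000b0600000b00000b0500000b00000b0200000600000b0200000b0000060100000800000b0100000b0000080300000500000b0300000b0000050300000400000a0300000a0000040900000a00000a0900000a00000a0800000a00000a0700000a00000a0600000a00000a0500000a00000a0400000300000a0400000a000003090000090000090900000900000908000009000009070000090000090600000900000905000009000009020000040000090200000900000404000002000009040000090000020900000800000809000008000008080000080000080700000800000806000008000008050000080000080200000300000802000008000003030000020000080300000800000209000007000007090000070000070800000700000707000007000007060000070000070500000700000701000004000007010000070000040400000100000704000007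00000109000006000006090000060000060800000600000607000006000006060000060000060500000600000601000003000006010000060000030300000100000603000006000001010000020000050100000500000209000005000005090000050000050800000500000507000005000005060000050000050500000500000502000001000005020000050000010900000400000409000004000004080000040000040700000400000406000004000004050000040000040400000000000404000004000000090000030000030900000300000308000003000003070000030000030600000300000305000003000003030000000000030300000300000009000002000002090000020000020800000200000207000002000002060000020000020500000200000202000000000002020000020000000900000100000109000001000001080000010000010700000100000106000001000001050000010000010100000000000101000001000000))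
noncomputable def gs (y : ℕ) : ℕ := (sel (nat_lit 3) y (sel (nat_lit 1) y (nat_lit 0x0) (sel (nat_lit 2) y (nat_lit 0x0) (nat_lit 0x0))) (sel (nat_lit 5) y (sel (nat_lit 4) y (nat_lit 0x0) (nat_lit 0x8000000800000c000023400002060000235800000b000023400002040000235800000a000023400002020000235800000f00002340000200000021980000008000009000022a0000206000022b8000008000022a0000204000022b8000007000022a0000202000022b800000e000022a000020000002118000000800000d00002200000206000020000002098000006000022000002060000221800000500002200000204000022180000040000220000020200002218000000800000c000021800001040000219800000b000021800001020000219800000a0000218000010000002198000000800000900002100000104000021180000080000210000010200002118000007000021000001000000211800000080000060000208000010400002098000005000020800001020000209800000400002080000100000020980000008000003000020000001040000201800000200002000000102000020180000010000200000010000002018000000)) (sel (nat_lit 6) y (nat_lit 0x800001200002740000232000022a0000235800000c00002740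0002320000275800000b000027400002300000275800000a0000274000022e0000275800000f0000274000022c00002538000000800000c000026800002260000269800000b000026800002240000269800000a0000268000022200002698000011000026800002200000235800000f00002680000228000024980000008000009000025c0000226000025d8000008000025c0000224000025d8000007000025c0000222000025d8000010000025c0000220000022b800000e000025c0000228000023f800000080000120000252000021600002100000219800000c000025200002160000253800000b000025200002140000253800000a0000252000021200002538000000800000c0000248000020e0000249800000b0000248000020c0000249800000a0000248000020a0000249800001100002480000208000021980000008000009000023e000020e000023f8000008000023e000020c000023f8000007000023e000020a000023f8000010000023e00002080000211) (nat_lit 0x80000138000013800001380000138000013800001380000138000013800001380000138000013800001380000138000013800001380000138000013800001380000138000012000028c0000266000025c0000269800000c000028c0000266000028d800000b000028c0000264000028d800000a000028c0000262000028d8000011000028c00002600000275800000f000028c000025e00002818000000800001200002800000246000023e0000249800000c000028000002460000281800000b000028000002440000281800000a00002800000242000028180000110000280000024000002538000000))))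
noncomputable def gd (y : ℕ) : ℕ := (nat_lit 0x28c000028000002740000268000025c00002520000248000023e0000234000022a000022000002180000210000020800002000000000)
noncomputable def gwh_0 (y : ℕ) : ℕ := (sel (nat_lit 8) y (sel (nat_lit 4) y (sel (nat_lit 2) y (sel (nat_lit 1) y (nat_lit 0x1050106000003001000) (nat_lit 0x1070108000003001001)) (sel (nat_lit 3) y (nat_lit 0x1090109000003001002) (nat_lit 0x2050206000003001003))) (sel (nat_lit 6) y (sel (nat_lit 5) y (nat_lit 0x2070208000003001004) (nat_lit 0x2090209000003001005)) (sel (nat_lit 7) y (nat_lit 0x3050306000003001006) (nat_lit 0x3070308000003001007)))) (sel (nat_lit 12) y (sel (nat_lit 10) y (sel (nat_lit 9) y (nat_lit 0x3090309000003001008) (nat_lit 0x4050406000003001009)) (sel (nat_lit 11) y (nat_lit 0x407040800000300100a) (nat_lit 0x409040900000300100b))) (sel (nat_lit 14) y (sel (nat_lit 13) y (nat_lit 0x20109020100000200300c) (nat_lit 0x301030100000200200d)) (sel (nat_lit 15) y (nat_lit 0x401040100000200200e) (nat_lit 0x302030200000200200f)))))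
noncomputable def gwh_1 (y : ℕ) : ℕ := (sel (nat_lit 17) y (nat_lit 0x4020402000002002010) (nat_lit 0x403090403000002003011))
noncomputable def gwh (y : ℕ) : ℕ := (sel (nat_lit 16) y (gwh_0 y) (gwh_1 y))
def sg : List (List ℕ) := [[], [1], [2], [3], [4], [5], [6], [7], [8], [9]]
def BL : List ℕ := [0x5010601, 0x7010801, 0x9010901, 0x5020602, 0x7020802, 0x9020902, 0x5030603, 0x7030803, 0x9030903, 0x5040604, 0x7040804, 0x9040904, 0x201020109, 0x3010301, 0x4010401, 0x3020302, 0x4020402, 0x403040309]
def Sub : List (List ℕ) := [[5], [7], [9]]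
theorem hA : prepA 42631003429084260860160 PQ.R sg 42631003429084260860160 BL Sub get gd = true := by decide +kernel
theorem hw : allR (okW BL gwh) 0 18 = true := by decide +kernel
theorem b0 : allR (blk get gs (gwB gwh 18) gd 42631003429084260860160) 4 3 = true := by decide +kernel
theorem hb : ∀ b, 4 ≤ b → b < 7 → blk get gs (gwB gwh 18) gd 42631003429084260860160 b = true :=
  (allR_range b0 (by norm_num : 4 + 3 = 7))
noncomputable def gc (y : ℕ) : ℕ := (sel (nat_lit 4) y (sel (nat_lit 2) y (sel (nat_lit 1) y (nat_lit 0x28f000028e0000277000026b000025f0000276000026a000025e0000237000022d00002290000236000022c000022800002010000200) (nat_lit 0x29100002830000290000026d00002610000282000024b0000241000026c00002600000221000024a0000240000020900002200000208)) (sel (nat_lit 3) y (nat_lit 0x299000028b000027f0000298000025d000025b000028a000023f000027e000022b000025c000025a0000211000023e000022a0000210) (nat_lit 0x28d000028100002750000269000028c00002530000249000028000002350000274000026800002190000252000024800002340000218)))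 (sel (nat_lit 6) y (sel (nat_lit 5) y (nat_lit 0x29200002840000278000026e00002620000254000024c00002420000238000022e0000222000021a0000212000020a00002020000100) (nat_lit 0x29300002850000279000026f00002630000255000024d00002430000239000022f0000223000021b0000213000020b00002030000101)) (sel (nat_lit 7) y (nat_lit 0x2940000286000027a000027000002640000256000024e0000244000023a00002300000224000021c0000214000020c00002040000102) (sel (nat_lit 8) y (nat_lit 0x2950000287000027b000027100002650000257000024f0000245000023b00002310000225000021d0000215000020d00002050000103) (nat_lit 0x2970000289000027d00002730000267000025900002510000247000023d00002330000227000021f0000217000020f00002070000105)))))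
def X : List (List ℕ) := [[1], [2], [3], [4], [5], [7], [9]]
theorem hC : prepC sg 42631003429084260860160 X 9 16 1 = true := by decide +kernel
theorem c0 : allR (clo get gc 16 704 1) 0 9 = true := by decide +kernel
theorem cover {G : Type*} [Group G] {ev : ℕ → G} (hev : Good ev 42631003429084260860160) (hR : Rels ev PQ.R) :
    Cover (gen ev Sub) (gen ev X) 16 :=
  cert_cover hev hR hA hC hw hb (by norm_num) (allR_range c0 (by norm_num : 0 + 9 = 9 * 1))

end ub_2

theorem ub {G : Type*} [Group G] {ev : ℕ → G} (hev : Good ev 42631003429084260860160) (hR : Rels ev R) :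
    UB (gen ev [[1], [2], [3], [4], [5], [7], [9]]) 128 :=
  (((UB.bot.cover (ub_0.cover hev hR)).cover (ub_1.cover hev hR)).cover (ub_2.cover hev hR))

end PQ

end Cfsg.H5.Sz
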